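import Cfsg.Agent.StemCert.Count
import Cfsg.Agent.StemCert.MultiPacked
import Cfsg.Agent.StemCert.Stream
import Cfsg.Agent.OrthMult.SevenThreeData

/-! Checks of the multiplier certificate of the seven-dimensional orthogonal group over three elements: entries at the first level, continued. -/

set_option autoImplicit false
set_option maxHeartbeats 0
set_option maxRecDepth 100000
set_option Elab.async false

namespace Cfsg.Agent.OrthMult.SevenThree

open Cfsg.Agent.Compute Cfsg.Agent.StemCert

theorem ent0_2 : allFrom 0 351 (cert.entM 27 pvs 0 2) = true := by decide +kernel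
theorem ent0_3 : allFrom 0 351 (cert.entM 27 pvs 0 3) = true := by decide +kernel
theorem ent0_4 : allFrom 0 351 (cert.entM 27 pvs 0 4) = true := by decide +kernel
theorem ent0_5 : allFrom 0 351 (cert.entM 27 pvs 0 5) = true := by decide +kernel
theorem ent0_6 : allFrom 0 351 (cert.entM 27 pvs 0 6) = true := by decide +kernel

end Cfsg.Agent.OrthMult.SevenThree
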