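import Cfsg.Agent.StemCert.Count
import Cfsg.Agent.StemCert.MultiPacked
import Cfsg.Agent.StemCert.Stream
import Cfsg.Agent.OrthMult.SevenThreeData

/-! Checks of the multiplier certificate of the seven-dimensional orthogonal group over three elements: entries at the lower levels. -/

set_option autoImplicit false
set_option maxHeartbeats 0
set_option maxRecDepth 100000
set_option Elab.async false

namespace Cfsg.Agent.OrthMult.SevenThree

open Cfsg.Agent.Compute Cfsg.Agent.StemCert

theorem ent1_0 : allFrom 0 224 (cert.entM 27 pvs 1 0) = true := by decide +kernel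
theorem ent1_1 : allFrom 0 224 (cert.entM 27 pvs 1 1) = true := by decide +kernel
theorem ent1_2 : allFrom 0 224 (cert.entM 27 pvs 1 2) = true := by decide +kernel
theorem ent1_3 : allFrom 0 224 (cert.entM 27 pvs 1 3) = true := by decide +kernel
theorem ent1_4 : allFrom 0 224 (cert.entM 27 pvs 1 4) = true := by decide +kernel
theorem ent1_5 : allFrom 0 224 (cert.entM 27 pvs 1 5) = true := by decide +kernel
theorem ent2_0 : allFrom 0 81 (cert.entM 27 pvs 2 0) = true := by decide +kernel
theorem ent2_1 : allFrom 0 81 (cert.entM 27 pvs 2 1) = true := by decide +kernel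
theorem ent2_2 : allFrom 0 81 (cert.entM 27 pvs 2 2) = true := by decide +kernel
theorem ent2_3 : allFrom 0 81 (cert.entM 27 pvs 2 3) = true := by decide +kernel
theorem ent2_4 : allFrom 0 81 (cert.entM 27 pvs 2 4) = true := by decide +kernel
theorem ent3_0 : allFrom 0 30 (cert.entM 27 pvs 3 0) = true := by decide +kernel
theorem ent3_1 : allFrom 0 30 (cert.entM 27 pvs 3 1) = true := by decide +kernel
theorem ent3_2 : allFrom 0 30 (cert.entM 27 pvs 3 2) = true := by decide +kernel
theorem ent3_3 : allFrom 0 30 (cert.entM 27 pvs 3 3) = true := by decide +kernel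
theorem ent4_0 : allFrom 0 6 (cert.entM 27 pvs 4 0) = true := by decide +kernel
theorem ent4_1 : allFrom 0 6 (cert.entM 27 pvs 4 1) = true := by decide +kernel
theorem ent4_2 : allFrom 0 6 (cert.entM 27 pvs 4 2) = true := by decide +kernel
theorem ent5_0 : allFrom 0 4 (cert.entM 27 pvs 5 0) = true := by decide +kernel
theorem ent5_1 : allFrom 0 4 (cert.entM 27 pvs 5 1) = true := by decide +kernel

end Cfsg.Agent.OrthMult.SevenThree
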