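import Cfsg.Agent.StemCert.Count
import Cfsg.Agent.StemCert.MultiPacked
import Cfsg.Agent.StemCert.Stream
import Cfsg.Agent.OrthMult.SevenThreeData

/-! Checks of the multiplier certificate of the seven-dimensional orthogonal group over three elements: packed values at the first level. -/

set_option autoImplicit false
set_option maxHeartbeats 0
set_option maxRecDepth 100000
set_option Elab.async false

namespace Cfsg.Agent.OrthMult.SevenThree

open Cfsg.Agent.Compute Cfsg.Agent.StemCert

theorem pvc0_0 : allBelow (lvAt cert.D 0).size (fun j => pcong cert.md cert.dim (pvAt pvs (0, 0, j)) (entAt cert.D (0, 0, j)).e) = true := by decide +kernel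
theorem pvc0_1 : allBelow (lvAt cert.D 0).size (fun j => pcong cert.md cert.dim (pvAt pvs (0, 1, j)) (entAt cert.D (0, 1, j)).e) = true := by decide +kernel
theorem pvc0_2 : allBelow (lvAt cert.D 0).size (fun j => pcong cert.md cert.dim (pvAt pvs (0, 2, j)) (entAt cert.D (0, 2, j)).e) = true := by decide +kernel
theorem pvc0_3 : allBelow (lvAt cert.D 0).size (fun j => pcong cert.md cert.dim (pvAt pvs (0, 3, j)) (entAt cert.D (0, 3, j)).e) = true := by decide +kernel
theorem pvc0_4 : allBelow (lvAt cert.D 0).size (fun j => pcong cert.md cert.dim (pvAt pvs (0, 4, j)) (entAt cert.D (0, 4, j)).e) = true := by decide +kernel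
theorem pvc0_5 : allBelow (lvAt cert.D 0).size (fun j => pcong cert.md cert.dim (pvAt pvs (0, 5, j)) (entAt cert.D (0, 5, j)).e) = true := by decide +kernel
theorem pvc0_6 : allBelow (lvAt cert.D 0).size (fun j => pcong cert.md cert.dim (pvAt pvs (0, 6, j)) (entAt cert.D (0, 6, j)).e) = true := by decide +kernel

end Cfsg.Agent.OrthMult.SevenThree
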