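import Cfsg.Agent.StemCert.Count
import Cfsg.Agent.StemCert.MultiPacked
import Cfsg.Agent.StemCert.Stream
import Cfsg.Agent.OrthMult.SevenThreeData

/-! Checks of the multiplier certificate of the seven-dimensional orthogonal group over three elements: packed values at the lower levels. -/

set_option autoImplicit false
set_option maxHeartbeats 0
set_option maxRecDepth 100000
set_option Elab.async false

namespace Cfsg.Agent.OrthMult.SevenThree

open Cfsg.Agent.Compute Cfsg.Agent.StemCert

theorem pvc1_0 : allBelow (lvAt cert.D 1).size (fun j => pcong cert.md cert.dim (pvAt pvs (1, 0, j)) (entAt cert.D (1, 0, j)).e) = true := by decide +kernel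
theorem pvc1_1 : allBelow (lvAt cert.D 1).size (fun j => pcong cert.md cert.dim (pvAt pvs (1, 1, j)) (entAt cert.D (1, 1, j)).e) = true := by decide +kernel
theorem pvc1_2 : allBelow (lvAt cert.D 1).size (fun j => pcong cert.md cert.dim (pvAt pvs (1, 2, j)) (entAt cert.D (1, 2, j)).e) = true := by decide +kernel
theorem pvc1_3 : allBelow (lvAt cert.D 1).size (fun j => pcong cert.md cert.dim (pvAt pvs (1, 3, j)) (entAt cert.D (1, 3, j)).e) = true := by decide +kernel
theorem pvc1_4 : allBelow (lvAt cert.D 1).size (fun j => pcong cert.md cert.dim (pvAt pvs (1, 4, j)) (entAt cert.D (1, 4, j)).e) = true := by decide +kernel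
theorem pvc1_5 : allBelow (lvAt cert.D 1).size (fun j => pcong cert.md cert.dim (pvAt pvs (1, 5, j)) (entAt cert.D (1, 5, j)).e) = true := by decide +kernel
theorem pvc2_0 : allBelow (lvAt cert.D 2).size (fun j => pcong cert.md cert.dim (pvAt pvs (2, 0, j)) (entAt cert.D (2, 0, j)).e) = true := by decide +kernel
theorem pvc2_1 : allBelow (lvAt cert.D 2).size (fun j => pcong cert.md cert.dim (pvAt pvs (2, 1, j)) (entAt cert.D (2, 1, j)).e) = true := by decide +kernel
theorem pvc2_2 : allBelow (lvAt cert.D 2).size (fun j => pcong cert.md cert.dim (pvAt pvs (2, 2, j)) (entAt cert.D (2, 2, j)).e) = true := by decide +kernel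
theorem pvc2_3 : allBelow (lvAt cert.D 2).size (fun j => pcong cert.md cert.dim (pvAt pvs (2, 3, j)) (entAt cert.D (2, 3, j)).e) = true := by decide +kernel
theorem pvc2_4 : allBelow (lvAt cert.D 2).size (fun j => pcong cert.md cert.dim (pvAt pvs (2, 4, j)) (entAt cert.D (2, 4, j)).e) = true := by decide +kernel
theorem pvc3_0 : allBelow (lvAt cert.D 3).size (fun j => pcong cert.md cert.dim (pvAt pvs (3, 0, j)) (entAt cert.D (3, 0, j)).e) = true := by decide +kernel
theorem pvc3_1 : allBelow (lvAt cert.D 3).size (fun j => pcong cert.md cert.dim (pvAt pvs (3, 1, j)) (entAt cert.D (3, 1, j)).e) = true := by decide +kernel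
theorem pvc3_2 : allBelow (lvAt cert.D 3).size (fun j => pcong cert.md cert.dim (pvAt pvs (3, 2, j)) (entAt cert.D (3, 2, j)).e) = true := by decide +kernel
theorem pvc3_3 : allBelow (lvAt cert.D 3).size (fun j => pcong cert.md cert.dim (pvAt pvs (3, 3, j)) (entAt cert.D (3, 3, j)).e) = true := by decide +kernel
theorem pvc4_0 : allBelow (lvAt cert.D 4).size (fun j => pcong cert.md cert.dim (pvAt pvs (4, 0, j)) (entAt cert.D (4, 0, j)).e) = true := by decide +kernel
theorem pvc4_1 : allBelow (lvAt cert.D 4).size (fun j => pcong cert.md cert.dim (pvAt pvs (4, 1, j)) (entAt cert.D (4, 1, j)).e) = true := by decide +kernel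
theorem pvc4_2 : allBelow (lvAt cert.D 4).size (fun j => pcong cert.md cert.dim (pvAt pvs (4, 2, j)) (entAt cert.D (4, 2, j)).e) = true := by decide +kernel
theorem pvc5_0 : allBelow (lvAt cert.D 5).size (fun j => pcong cert.md cert.dim (pvAt pvs (5, 0, j)) (entAt cert.D (5, 0, j)).e) = true := by decide +kernel
theorem pvc5_1 : allBelow (lvAt cert.D 5).size (fun j => pcong cert.md cert.dim (pvAt pvs (5, 1, j)) (entAt cert.D (5, 1, j)).e) = true := by decide +kernel

end Cfsg.Agent.OrthMult.SevenThree
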