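import Cfsg.Agent.StemCert.Count
import Cfsg.Agent.StemCert.MultiPacked
import Cfsg.Agent.StemCert.Stream
import Cfsg.Agent.OrthMult.SevenThreeData

/-! Checks of the multiplier certificate of the seven-dimensional orthogonal group over three elements: shape, permutations and the basis. -/

set_option autoImplicit false
set_option maxHeartbeats 0
set_option maxRecDepth 100000
set_option Elab.async false

namespace Cfsg.Agent.OrthMult.SevenThree

open Cfsg.Agent.Compute Cfsg.Agent.StemCert

theorem shape_ok : cert.D.length = 6 ∧ cert.md = 10077696 ∧ numForms cert.D = 4585351680 := by decide +kernel
theorem wf_ok : wfB cert.D = true := by decide +kernel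
theorem top_ok : cert.topOK 7 = true := by decide +kernel
theorem pow_ok : allBelow 7 cert.powOK = true := by decide +kernel
theorem commData_ok : allBelow 7 cert.commOK = true := by decide +kernel
theorem small_ok : smallB cert.D = true := by decide +kernel
theorem hw_ok : hwB 27 cert.D = true := by decide +kernel
theorem bound_ok : multi.boundP cert rowVals vecVals = true := by decide +kernel
theorem order_ok : allBelow multi.ords.length (multi.ordP cert rowVals vecVals) = true := by decide +kernel
theorem below_ok : gensBelow 7 cert.D = true := by decide +kernel
theorem blt_ok : allB (fun b => Nat.blt b 351) base = true := by decide +kernel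
theorem distinct_ok : distinctB 9 codes cert.D base = true := by decide +kernel
theorem comm_ok : allBelow 7 (cert.commAt 9 codes base) = true := by decide +kernel
theorem row_ok : allB cert.rowOK cert.rows = true := by decide +kernel
theorem basis_ok : allBelow cert.dim (multi.basisP cert rowVals vecVals) = true := by decide +kernel
theorem table_0 : cert.tableAt 9 codes base 0 = true := by decide +kernel
theorem table_1 : cert.tableAt 9 codes base 1 = true := by decide +kernel
theorem table_2 : cert.tableAt 9 codes base 2 = true := by decide +kernel
theorem table_3 : cert.tableAt 9 codes base 3 = true := by decide +kernel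
theorem table_4 : cert.tableAt 9 codes base 4 = true := by decide +kernel
theorem table_5 : cert.tableAt 9 codes base 5 = true := by decide +kernel

end Cfsg.Agent.OrthMult.SevenThree
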